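import Cfsg.Agent.GAL.Spor.Row
import Cfsg.Agent.TAB.Sm2.M11
import Cfsg.Agent.TAB.Sm2.M12
import Cfsg.Agent.TAB.Sm2.M22
import Cfsg.Agent.TAB.Sm2.M23
import Cfsg.Agent.TAB.Sm2.M24
import Cfsg.Agent.TAB.J1.Main
import Cfsg.Agent.TAB.J2.Main
import Cfsg.Agent.TAB.J3.Main
import Cfsg.Agent.TAB.J4.Main
import Cfsg.Agent.TAB.Co1.Main
import Cfsg.Agent.TAB.Co2.Main
import Cfsg.Agent.TAB.Co3.Main
import Cfsg.Agent.TAB.McL.Main
import Cfsg.Agent.TAB.HS.Main
import Cfsg.Agent.TAB.Suz.Main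
import Cfsg.Agent.TAB.He.Main
import Cfsg.Agent.TAB.Ru.Main
import Cfsg.Agent.TAB.F22.Main
import Cfsg.Agent.TAB.M.Main
import Cfsg.Agent.TAB.ON.Main
import Cfsg.Agent.TAB.Ly.Main
import Cfsg.Agent.TAB.Th.Main
import Cfsg.Agent.TAB.Sm2.Tits

/-!
# S4617 / S4618: the tables which are plugged in (helper20, GAL)
-/

set_option autoImplicit false

namespace Cfsg.Agent.GAL.Spor

open Cfsg Cfsg.Spor Cfsg.Agent.TAB.Use

/-- the sporadic row from the four remaining tables -/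
theorem spor_of4 (fi23 : OddSig Fi23) (fi24 : OddSig Fi24') (hn : OddMoved HN ∧ OddSigAut HN)
    (b : OddSig BabyMonster) : RowG fun S _ => IsSporadicGroup S :=
  spor_of
    { m11 := TAB.Sm2.M11.sig
      m12 := TAB.Sm2.M12.sig
      m22 := TAB.Sm2.M22.sig
      m23 := TAB.Sm2.M23.sig
      m24 := TAB.Sm2.M24.sig
      j1 := TAB.J1.sig
      j2 := TAB.J2.sig
      j3 := fun F _ _ ω h1 h2 => TAB.J3.sig ⟨F, _, _, ω, h1, h2, ⟨MulEquiv.refl _⟩⟩
      j4 := TAB.J4.sig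
      co1 := TAB.Co1.sig
      co2 := TAB.Co2.sig
      co3 := TAB.Co3.sig
      mcl := TAB.McL.sig
      hs := TAB.HS.sig
      suz := TAB.Suz.sig
      he := TAB.He.sig
      ru := TAB.Ru.sig
      on := TAB.ON.sig
      ly := TAB.Ly.sig
      fi22 := TAB.F22.sig
      fi23 := fi23
      fi24 := fi24
      hn := hn
      th := TAB.Th.sig
      b := b
      m := TAB.M.sig }

/-- the Tits group -/
theorem rowTits : RowG fun S _ => Lie.IsoTits S := tits_of fun _ _ _ h => TAB.Sm2.Tits.sig_of h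

end Cfsg.Agent.GAL.Spor
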