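import Cfsg.Agent.GAL.Spor.Janko
import Cfsg.Agent.KFacts.HN.Sheet

/-!
# S4617 / S4618: the box of `HN` (helper20, GAL)

The quotient `(A₅ × A₅).2` of the centralizer of a 2-central involution.
-/

set_option autoImplicit false

namespace Cfsg.Agent.GAL.Spor

open Cfsg Cfsg.Spor Subgroup Cfsg.Agent.TAB.Use Cfsg.Agent.OddHalf.D8.JTwo.Sheet Cfsg.Agent.ODD.Alt

section wr

variable {L : Type} [Group L]

/-- two commuting copies of `A₅` which are interchanged by an element of the Sylow subgroup -/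
structure Wr (φ ψ : A5 →* L) (T : Sylow 2 L) (t : L) : Prop where
  comm : ∀ a b, φ a * ψ b = ψ b * φ a
  inj : ∀ a b, φ a * ψ b = 1 → a = 1 ∧ b = 1
  mem : ∀ a b, φ a * ψ b ∈ (T : Subgroup L) ↔ a ∈ (Q5 : Subgroup A5) ∧ b ∈ (Q5 : Subgroup A5)
  tT : t ∈ (T : Subgroup L)
  sw1 : ∀ a, ∃ b, t * φ a * t⁻¹ = ψ b
  sw2 : ∀ b, ∃ a, t * ψ b * t⁻¹ = φ a
  odd : ∀ y : L, Odd (orderOf y) → ∃ a b, y = φ a * ψ b
  all : ∀ x : L, (∃ a b, x = φ a * ψ b) ∨ ∃ a b, x = φ a * ψ b * t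
  cent : ∀ x : L, (∀ a b, x * (φ a * ψ b) = φ a * ψ b * x) → x = 1
  aut : ∀ β : MulAut L, ((∀ a, ∃ a', β (φ a) = φ a') ∧ ∀ b, ∃ b', β (ψ b) = ψ b') ∨
    ((∀ a, ∃ b', β (φ a) = ψ b') ∧ ∀ b, ∃ a', β (ψ b) = φ a')

variable {φ ψ : A5 →* L} {T : Sylow 2 L} {t : L}

theorem Wr.symm (h : Wr φ ψ T t) : Wr ψ φ T t where
  comm a b := (h.comm b a).symm
  inj a b e := (h.inj b a (by rwa [h.comm])).symm
  mem a b := by rw [← h.comm, h.mem, and_comm]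
  tT := h.tT
  sw1 := h.sw2
  sw2 := h.sw1
  odd y hy := by
    obtain ⟨a, b, e⟩ := h.odd y hy
    exact ⟨b, a, by rwa [← h.comm]⟩
  all x := by
    rcases h.all x with ⟨a, b, e⟩ | ⟨a, b, e⟩
    · exact Or.inl ⟨b, a, by rwa [← h.comm]⟩
    · exact Or.inr ⟨b, a, by rwa [← h.comm]⟩
  cent x hx := h.cent x fun a b => by rw [h.comm]; exact hx b a
  aut β := (h.aut β).imp And.symm And.symm

theorem Wr.inj1 (h : Wr φ ψ T t) : Function.Injective φ :=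
  (injective_iff_map_eq_one φ).2 fun a e => (h.inj a 1 (by rw [e, map_one, mul_one])).1

theorem Wr.mem1 (h : Wr φ ψ T t) {a : A5} : φ a ∈ (T : Subgroup L) ↔ a ∈ (Q5 : Subgroup A5) := by
  have h1 := h.mem a 1
  rw [map_one, mul_one] at h1
  exact h1.trans (and_iff_left (one_mem _))

theorem Wr.conj1 (h : Wr φ ψ T t) (a b x : A5) : φ a * ψ b * φ x * (φ a * ψ b)⁻¹ = φ (a * x * a⁻¹) := by
  rw [map_mul, map_mul, map_inv, mul_assoc (φ a), ← h.comm]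
  group

theorem Wr.mul (h : Wr φ ψ T t) (a b a' b' : A5) : φ a * ψ b * (φ a' * ψ b') = φ (a * a') * ψ (b * b') := by
  rw [map_mul, map_mul, mul_assoc, ← mul_assoc (ψ b), ← h.comm]
  group

theorem Wr.inv (h : Wr φ ψ T t) (a b : A5) : (φ a * ψ b)⁻¹ = φ a⁻¹ * ψ b⁻¹ := by
  rw [inv_eq_iff_mul_eq_one, h.mul, mul_inv_cancel, mul_inv_cancel, map_one, map_one, mul_one]

theorem Wr.odd1 (h : Wr φ ψ T t) {a b : A5} (ho : Odd (orderOf (φ a * ψ b))) : Odd (orderOf a) := by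
  refine Odd.of_dvd_nat ho (orderOf_dvd_of_pow_eq_one ?_)
  have h1 := pow_orderOf_eq_one (φ a * ψ b)
  rw [Commute.mul_pow (h.comm a b), ← map_pow, ← map_pow] at h1
  exact (h.inj _ _ h1).1

theorem Wr.cf1 (h : Wr φ ψ T t) {a b : A5} (hy : φ a * ψ b ∈ centralizer ((T : Subgroup L) : Set L))
    (ho : Odd (orderOf (φ a * ψ b))) : a = 1 := by
  refine cf5 a ?_ (h.odd1 ho)
  rw [mem_centralizer_iff]
  intro q hq
  have h1 := mem_centralizer_iff.1 hy (φ q) (h.mem1.2 hq)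
  have h2 := h.conj1 a b q
  rw [← h1, mul_inv_cancel_right] at h2
  exact (mul_inv_eq_iff_eq_mul.1 (h.inj1 h2).symm).symm

theorem Wr.cf (h : Wr φ ψ T t) : CF T := by
  intro y hy ho
  obtain ⟨a, b, rfl⟩ := h.odd y ho
  have h1 : b = 1 := h.symm.cf1 (b := a) (by rwa [← h.comm]) (by rwa [← h.comm])
  rw [h.cf1 hy ho, h1, map_one, map_one, mul_one]

theorem Wr.not_mem (h : Wr φ ψ T t) (a b : A5) : t ≠ φ a * ψ b := by
  intro e
  obtain ⟨c, hc⟩ := h.sw1 t5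
  have hc' : φ (a * t5 * a⁻¹) = ψ c := by rw [← hc, ← h.conj1 a b, ← e]
  have h1 := (h.inj (a * t5 * a⁻¹) c⁻¹ (by rw [hc', map_inv, mul_inv_cancel])).1
  rw [conj_eq_one_iff] at h1
  exact absurd h1 (by decide +kernel)

theorem Wr.sw1' (h : Wr φ ψ T t) (b : A5) : ∃ a, t * φ a * t⁻¹ = ψ b := by
  choose f hf using h.sw1
  have h1 : Function.Injective f := fun a a' e => h.inj1 ((MulAut.conj t).injective (by
    rw [MulAut.conj_apply, MulAut.conj_apply, hf, hf, e]))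
  obtain ⟨a, rfl⟩ := Finite.surjective_of_injective h1 b
  exact ⟨a, hf a⟩

theorem Wr.not_dg [Finite L] (h : Wr φ ψ T t) : ¬ DG T := by
  intro hD
  have hc : ∀ g : A5, g * t5 = t5 * g → c5 * g * c5⁻¹ * t5 = t5 * (c5 * g * c5⁻¹) := by decide +kernel
  have hcQ : ∀ q ∈ (Q5 : Subgroup A5), c5 * q * c5⁻¹ ∈ (Q5 : Subgroup A5) := fun q hq => mem_Q5.2 (hc q (mem_Q5.1 hq))
  have hc3 : c5 ^ 3 = 1 := by decide +kernel
  obtain ⟨b, hb⟩ := h.sw1 c5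
  have hb3 : b ^ 3 = 1 := h.symm.inj1 (by rw [map_pow, ← hb, conj_pow, ← map_pow, hc3, map_one, map_one]; group)
  have hbQ : ∀ q ∈ (Q5 : Subgroup A5), b * q * b⁻¹ ∈ (Q5 : Subgroup A5) := by
    intro q hq
    obtain ⟨p, hp⟩ := h.sw1' q
    have h1 : p ∈ (Q5 : Subgroup A5) := by
      rw [← h.mem1, show φ p = t⁻¹ * ψ q * t by rw [← hp]; group]
      exact mul_mem (mul_mem (inv_mem h.tT) (h.symm.mem1.2 hq)) h.tT
    rw [← h.symm.mem1, map_mul, map_mul, map_inv, ← hb, ← hp,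
      show t * φ c5 * t⁻¹ * (t * φ p * t⁻¹) * (t * φ c5 * t⁻¹)⁻¹ = t * (φ c5 * φ p * (φ c5)⁻¹) * t⁻¹ by group,
      ← map_inv, ← map_mul, ← map_mul]
    exact mul_mem (mul_mem h.tT (h.mem1.2 (hcQ p h1))) (inv_mem h.tT)
  have h1 : ∀ p q, φ p * ψ q ∈ (T : Subgroup L) →
      φ c5 * ψ b * (φ p * ψ q) * (φ c5 * ψ b)⁻¹ ∈ (T : Subgroup L) := by
    intro p q hpq
    rw [h.inv, h.mul, h.mul]
    exact (h.mem _ _).2 ⟨hcQ p ((h.mem _ _).1 hpq).1, hbQ q ((h.mem _ _).1 hpq).2⟩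
  have h2 : φ c5 * ψ b * t * (φ c5 * ψ b)⁻¹ ∈ (T : Subgroup L) := by
    obtain ⟨p, q, hpq⟩ := (h.all (t * t)).resolve_right fun ⟨p, q, e⟩ => h.not_mem p q (mul_right_cancel e)
    have h3 : p ∈ (Q5 : Subgroup A5) := ((h.mem p q).1 (hpq ▸ mul_mem h.tT h.tT)).1
    have h4 : t * ψ b * t⁻¹ = φ (p * c5 * p⁻¹) := by
      rw [← h.conj1 p q, ← hpq, ← hb]
      group
    have h5 : φ c5 * ψ b * t * (φ c5 * ψ b)⁻¹ = φ c5 * ψ b * (t * φ c5 * t⁻¹ * (t * ψ b * t⁻¹))⁻¹ * t := by group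
    rw [h5, hb, h4, ← h.comm, h.inv, h.mul]
    refine mul_mem ((h.mem _ _).2 ⟨?_, by rw [mul_inv_cancel]; exact one_mem _⟩) h.tT
    rw [show c5 * (p * c5 * p⁻¹)⁻¹ = c5 * p * c5⁻¹ * p⁻¹ by group]
    exact mul_mem (hcQ p h3) (inv_mem h3)
  have h3 := hD (φ c5 * ψ b) (mem_normalizer_fintype fun x hx => by
      rcases h.all x with ⟨p, q, rfl⟩ | ⟨p, q, rfl⟩
      · exact h1 p q hx
      · rw [show φ c5 * ψ b * (φ p * ψ q * t) * (φ c5 * ψ b)⁻¹ =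
          φ c5 * ψ b * (φ p * ψ q) * (φ c5 * ψ b)⁻¹ * (φ c5 * ψ b * t * (φ c5 * ψ b)⁻¹) by group]
        exact mul_mem (h1 p q ((Subgroup.mul_mem_cancel_right _ h.tT).1 hx)) h2)
    (Odd.of_dvd_nat (by decide : Odd 3) (orderOf_dvd_of_pow_eq_one (by
      rw [Commute.mul_pow (h.comm _ _), ← map_pow, ← map_pow, hc3, hb3, map_one, map_one, mul_one])))
  have h4 := mem_centralizer_iff.1 h3 (φ t5) (h.mem1.2 (mem_Q5.2 rfl))
  have h5 := h.conj1 c5 b t5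
  rw [← h4, mul_inv_cancel_right] at h5
  exact absurd (h.inj1 h5) (by decide +kernel)

theorem Wr.phi1 (h : Wr φ ψ T t) {β : MulAut L} (h1 : ∀ a, ∃ a', β (φ a) = φ a') (h2 : ∀ b, ∃ b', β (ψ b) = ψ b')
    (hT : ∀ q ∈ (T : Subgroup L), β q ∈ (T : Subgroup L)) (hn : ¬ ∃ s, ∀ a, β (φ a) = φ (s * a * s⁻¹)) {a b : A5}
    (hy : φ a * ψ b ∈ normalizer ((T : Subgroup L) : Set L)) (ho : Odd (orderOf (φ a * ψ b)))
    (hm : (φ a * ψ b)⁻¹ * β (φ a * ψ b) ∈ (T : Subgroup L)) : φ a * ψ b = 1 := by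
  choose f hf using h1
  let g : A5 →* A5 := MonoidHom.mk' f fun x y => h.inj1 (by rw [map_mul, ← hf, ← hf, ← hf, map_mul, map_mul])
  have hg : Function.Injective g := fun x y e => h.inj1 (β.injective (by
    rw [hf, hf]
    exact congrArg φ e))
  let r : MulAut A5 := MulEquiv.ofBijective g ⟨hg, Finite.surjective_of_injective hg⟩
  have hr : ∀ x, β (φ x) = φ (r x) := hf
  obtain ⟨b', hb'⟩ := h2 b
  have ha : a = 1 := phi5' r (fun ⟨s, hs⟩ => hn ⟨s, fun x => by rw [hr, hs, MulAut.conj_apply]⟩)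
    (fun q hq => h.mem1.1 (hr q ▸ hT _ (h.mem1.2 hq))) a
    (mem_normalizer_fintype fun q hq => h.mem1.1 (h.conj1 a b q ▸ (mem_normalizer_iff.1 hy _).1 (h.mem1.2 hq)))
    (h.odd1 ho) (by
      rw [map_mul, hr, hb', h.inv, h.mul] at hm
      exact ((h.mem _ _).1 hm).1)
  have hb : Odd (orderOf b) := h.symm.odd1 (a := b) (b := a) (by rwa [← h.comm])
  rw [ha, map_one, one_mul] at hy ⊢
  obtain ⟨a', ha'⟩ := h.sw2 b
  have h3 := mul_mem ((mem_normalizer_iff.1 (inv_mem hy) t).1 h.tT) (inv_mem h.tT)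
  rw [inv_inv, show (ψ b)⁻¹ * t * ψ b * t⁻¹ = (ψ b)⁻¹ * (t * ψ b * t⁻¹) by group, ha', ← map_inv, ← h.comm] at h3
  rw [one_of_Q5 (inv_mem_iff.1 ((h.mem _ _).1 h3).2) hb, map_one]

theorem Wr.phi2 (h : Wr φ ψ T t) {β : MulAut L} (h1 : ∀ a, ∃ a', β (φ a) = φ a') (h2 : ∀ b, ∃ b', β (ψ b) = ψ b')
    (hT : ∀ q ∈ (T : Subgroup L), β q ∈ (T : Subgroup L)) (hn : ¬ Inner β) {y : L}
    (hy : y ∈ normalizer ((T : Subgroup L) : Set L)) (ho : Odd (orderOf y)) (hm : y⁻¹ * β y ∈ (T : Subgroup L)) :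
    y = 1 := by
  obtain ⟨a, b, rfl⟩ := h.odd y ho
  by_cases h3 : ∃ s, ∀ a, β (φ a) = φ (s * a * s⁻¹)
  · by_cases h4 : ∃ s, ∀ b, β (ψ b) = ψ (s * b * s⁻¹)
    · obtain ⟨s, hs⟩ := h3
      obtain ⟨s', hs'⟩ := h4
      have h5 : ∀ a b, β (φ a * ψ b) = φ s * ψ s' * (φ a * ψ b) * (φ s * ψ s')⁻¹ := fun a b => by
        rw [map_mul, hs, hs', h.inv, h.mul, h.mul]
      refine absurd ⟨φ s * ψ s', MulEquiv.ext fun x => ?_⟩ hn
      have h6 : ∀ a b, ∃ a' b', x * (φ a * ψ b) * x⁻¹ = φ a' * ψ b' := by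
        intro a b
        rcases h.all x with ⟨p, q, rfl⟩ | ⟨p, q, rfl⟩
        · exact ⟨_, _, by rw [h.inv, h.mul, h.mul]⟩
        · obtain ⟨b', hb'⟩ := h.sw1 a
          obtain ⟨a', ha'⟩ := h.sw2 b
          refine ⟨p * a' * p⁻¹, q * b' * q⁻¹, ?_⟩
          rw [← h.mul, ← h.mul, ← h.inv, h.comm a', ← hb', ← ha']
          group
      have h7 := h.cent (x⁻¹ * ((φ s * ψ s')⁻¹ * β x * (φ s * ψ s'))) fun a b => by
        obtain ⟨a', b', e⟩ := h6 a b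
        have h8 := h5 a' b'
        rw [← e, map_mul, map_mul β x, map_inv, h5] at h8
        generalize φ s * ψ s' = l at h8 ⊢
        generalize φ a * ψ b = m at h8 ⊢
        calc x⁻¹ * (l⁻¹ * β x * l) * m = x⁻¹ * l⁻¹ * (β x * (l * m * l⁻¹) * (β x)⁻¹) * β x * l := by group
          _ = m * (x⁻¹ * (l⁻¹ * β x * l)) := by rw [h8]; group
      have h8 := inv_mul_eq_one.1 h7
      calc β x = φ s * ψ s' * ((φ s * ψ s')⁻¹ * β x * (φ s * ψ s')) * (φ s * ψ s')⁻¹ := by group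
        _ = _ := by rw [← h8, MulAut.conj_apply]
    · rw [h.comm] at hy ho hm ⊢
      exact h.symm.phi1 h2 h1 hT h4 hy ho hm
  · exact h.phi1 h1 h2 hT h3 hy ho hm

theorem Wr.phi (h : Wr φ ψ T t) : Phi T := by
  intro β _ hn hT y hy ho hm
  rcases h.aut β with ⟨h1, h2⟩ | ⟨h1, h2⟩
  · exact h.phi2 h1 h2 hT hn hy ho hm
  · refine h.phi2 (β := MulAut.conj t * β) (fun a => ?_) (fun b => ?_) (fun q hq => ?_) (fun e => hn ?_) hy ho ?_
    · obtain ⟨b', hb'⟩ := h1 a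
      obtain ⟨a', ha'⟩ := h.sw2 b'
      exact ⟨a', by rw [MulAut.mul_apply, hb', MulAut.conj_apply, ha']⟩
    · obtain ⟨a', ha'⟩ := h2 b
      obtain ⟨b', hb'⟩ := h.sw1 a'
      exact ⟨b', by rw [MulAut.mul_apply, ha', MulAut.conj_apply, hb']⟩
    · exact mul_mem (mul_mem h.tT (hT q hq)) (inv_mem h.tT)
    · rw [inner_iff_mem] at e ⊢
      exact (Subgroup.mul_mem_cancel_left _ (inner_iff_mem.1 ⟨t, rfl⟩)).1 e
    · have h3 := mul_mem (mul_mem ((mem_normalizer_iff.1 (inv_mem hy) t).1 h.tT) hm) (inv_mem h.tT)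
      rw [MulAut.mul_apply, MulAut.conj_apply, show y⁻¹ * (t * β y * t⁻¹) = y⁻¹ * t * y⁻¹⁻¹ * (y⁻¹ * β y) * t⁻¹ by group]
      exact h3

end wr

open Cfsg.Agent.KFacts.HN hiding A5 in
/-- the quotient of the centralizer in `HN` -/
theorem exists_wr : ∃ (T : Sylow 2 Lq) (t : Lq), Wr φA φB T t := by
  have := fact2
  have := KFacts.HN.finite_HN
  have hfin : Finite Lq := Finite.of_surjective _ ρ_surj
  have hp : IsPGroup 2 (((Q5 : Subgroup A5).prod (Q5 : Subgroup A5)).map φ2) := by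
    refine IsPGroup.map (fun x => ⟨1, Subtype.ext (Prod.ext ?_ ?_)⟩) _
    · exact sq_Q5 _ (mem_Q5.1 x.2.1)
    · exact sq_Q5 _ (mem_Q5.1 x.2.2)
  obtain ⟨T, hT⟩ := hp.exists_le_sylow
  have hinj : Function.Injective φ2 := fun x y e => Prod.ext (φ2_inj e).1 (φ2_inj e).2
  have hW : IsPGroup 2 ((T : Subgroup Lq).comap φ2) := T.isPGroup'.comap_of_injective _ hinj
  have h1 : ((T : Subgroup Lq).comap φ2).map (MonoidHom.fst _ _) = Q5 :=
    Q5.is_maximal' (hW.map _) fun q hq => ⟨(q, 1), hT ⟨(q, 1), ⟨hq, one_mem _⟩, rfl⟩, rfl⟩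
  have h2 : ((T : Subgroup Lq).comap φ2).map (MonoidHom.snd _ _) = Q5 :=
    Q5.is_maximal' (hW.map _) fun q hq => ⟨(1, q), hT ⟨(1, q), ⟨one_mem _, hq⟩, rfl⟩, rfl⟩
  obtain ⟨t, ht, htL⟩ : ∃ t ∈ (T : Subgroup Lq), t ∉ LL := by
    by_contra hc
    push Not at hc
    have h3 : LL.index ∣ (T : Subgroup Lq).index := index_dvd_of_le hc
    rw [index_LL] at h3
    exact T.not_dvd_index h3
  obtain ⟨l, hl, rfl⟩ := (LL_or t).resolve_left htL
  obtain ⟨p, q, rfl⟩ := mem_LL.1 hl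
  obtain ⟨p', q', hpq⟩ := mem_LL.1 e11_mem
  have hA : ∀ a b x, φA a * φB b * φA x * (φA a * φB b)⁻¹ = φA (a * x * a⁻¹) := by
    intro a b x
    rw [map_mul, map_mul, map_inv, mul_assoc (φA a), ← comm_AB]
    group
  have hB : ∀ a b x, φA a * φB b * φB x * (φA a * φB b)⁻¹ = φB (b * x * b⁻¹) := by
    intro a b x
    rw [map_mul, map_mul, map_inv, comm_AB a b, mul_assoc (φB b), comm_AB]
    group
  have hcard : ∀ {M N : Subgroup Lq}, (M = AA ∨ M = BB) → (N = AA ∨ N = BB) → Nat.card M = Nat.card N := by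
    have hA : Nat.card AA = Nat.card A5 := (Nat.card_congr (MonoidHom.ofInjective φA_inj).toEquiv).symm
    have hB : Nat.card BB = Nat.card A5 := (Nat.card_congr (MonoidHom.ofInjective φB_inj).toEquiv).symm
    rintro M N (rfl | rfl) (rfl | rfl) <;> simp only [hA, hB]
  have ht5 : t5 ≠ 1 := by decide +kernel
  have hLL : ∀ β : MulAut Lq, LL ≤ LL.map β.toMonoidHom := by
    intro β
    have := normal_LL.map β.toMonoidHom β.surjective
    refine LL_le_of_normal fun e => ht5 (φA_inj ?_)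
    have h3 : β (φA t5) ∈ LL.map β.toMonoidHom := ⟨_, A_mem t5, rfl⟩
    rw [e, mem_bot, map_eq_one_iff β β.injective] at h3
    rw [h3, map_one]
  have hmap : ∀ (β : MulAut Lq) {M : Subgroup Lq}, (M = AA ∨ M = BB) →
      M.map β.toMonoidHom = AA ∨ M.map β.toMonoidHom = BB := by
    intro β M hM
    have h3 : Nat.card (M.map β.toMonoidHom) = Nat.card M := card_map_of_injective β.injective
    have h4 := A_or_B_le (N := M.map β.toMonoidHom) (by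
      rintro l hl _ ⟨n, hn, rfl⟩
      obtain ⟨l', hl', rfl⟩ := hLL β hl
      refine ⟨l' * n * l'⁻¹, ?_, by rw [map_mul, map_mul, map_inv]⟩
      obtain ⟨a, b, rfl⟩ := mem_LL.1 hl'
      rcases hM with rfl | rfl
      · obtain ⟨x, rfl⟩ := hn
        exact ⟨_, (hA a b x).symm⟩
      · obtain ⟨x, rfl⟩ := hn
        exact ⟨_, (hB a b x).symm⟩) (by
      intro e
      rw [map_eq_bot_iff_of_injective _ β.injective] at e
      rcases hM with rfl | rfl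
      · exact ht5 (φA_inj ((mem_bot.1 (e ▸ (⟨t5, rfl⟩ : φA t5 ∈ AA))).trans (map_one _).symm))
      · exact ht5 (φB_inj ((mem_bot.1 (e ▸ (⟨t5, rfl⟩ : φB t5 ∈ BB))).trans (map_one _).symm)))
    rcases h4 with h4 | h4
    · exact Or.inl (eq_of_le_of_card_ge h4 (by rw [h3, hcard hM (Or.inl rfl)])).symm
    · exact Or.inr (eq_of_le_of_card_ge h4 (by rw [h3, hcard hM (Or.inr rfl)])).symm
  have hne : AA ≠ BB := fun e => by
    obtain ⟨b, hb⟩ : φA t5 ∈ BB := e ▸ (⟨t5, rfl⟩ : φA t5 ∈ AA)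
    exact ht5 (A_inter_B hb.symm).1
  refine ⟨T, _, comm_AB, fun a b e => φ2_inj (by rw [e, map_one, map_one, mul_one]),
    fun a b => ⟨fun e => ⟨h1 ▸ ⟨(a, b), e, rfl⟩, h2 ▸ ⟨(a, b), e, rfl⟩⟩, fun e => hT ⟨(a, b), e, rfl⟩⟩, ht,
    fun a => ⟨q * (q' * a * q'⁻¹) * q⁻¹, ?_⟩, fun b => ⟨p * b * p⁻¹, ?_⟩, fun y hy => ?_, fun x => ?_,
    fun x hx => cent_LL fun y hy => ?_, fun β => ?_⟩
  · rw [← hB p, ← hB p', hpq, φB_apply a, show ([1, 1] : List ℕ) = [1] ++ [1] from rfl, e_append]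
    group
  · rw [← hA p q, φB_apply b]
    group
  · have h3 : y ∈ LL := by
      obtain ⟨k, hk⟩ := hy
      have h4 : y = (y ^ (k + 1)) ^ 2 := by
        rw [← pow_mul, show (k + 1) * 2 = 2 * k + 1 + 1 by ring, ← hk, pow_succ, pow_orderOf_eq_one, one_mul]
      rw [h4]
      exact sq_mem_of_index_two index_LL _
    obtain ⟨a, b, e⟩ := mem_LL.1 h3
    exact ⟨a, b, e.symm⟩
  · by_cases hx : x ∈ LL
    · obtain ⟨a, b, e⟩ := mem_LL.1 hx
      exact Or.inl ⟨a, b, e.symm⟩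
    · obtain ⟨a, b, e⟩ := mem_LL.1 ((mul_mem_iff_of_index_two index_LL).2
        (iff_of_false hx fun e => htL (inv_mem_iff.1 e)))
      exact Or.inr ⟨a, b, by rw [e, inv_mul_cancel_right]⟩
  · obtain ⟨a, b, rfl⟩ := mem_LL.1 hy
    exact hx a b
  · have h3 : AA.map β.toMonoidHom ≠ BB.map β.toMonoidHom := fun e => hne (map_injective β.injective e)
    have h4 : ∀ a, β (φA a) ∈ AA.map β.toMonoidHom := fun a => ⟨_, ⟨a, rfl⟩, rfl⟩
    have h5 : ∀ a, β (φB a) ∈ BB.map β.toMonoidHom := fun a => ⟨_, ⟨a, rfl⟩, rfl⟩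
    rcases hmap β (Or.inl rfl) with h6 | h6 <;> rcases hmap β (Or.inr rfl) with h7 | h7
    · exact absurd (h6.trans h7.symm) h3
    · rw [h6] at h4
      rw [h7] at h5
      exact Or.inl ⟨fun a => (h4 a).imp fun _ => Eq.symm, fun a => (h5 a).imp fun _ => Eq.symm⟩
    · rw [h6] at h4
      rw [h7] at h5
      exact Or.inr ⟨fun a => (h4 a).imp fun _ => Eq.symm, fun a => (h5 a).imp fun _ => Eq.symm⟩
    · exact absurd (h6.trans h7.symm) h3

open Cfsg.Agent.KFacts.HN hiding A5 in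
theorem box_hn {S : Type} [Group S] [Finite S] [IsSimpleGroup S] (h : IsoHN S) (hF : OddMoved HN ∧ OddSigAut HN) :
    Box S := by
  obtain ⟨e⟩ := h
  have : Finite HN := Finite.of_equiv _ e.toEquiv
  have : IsSimpleGroup HN := e.symm.isSimpleGroup
  have hfin : Finite Lq := Finite.of_surjective _ ρ_surj
  obtain ⟨T, t, W⟩ := exists_wr
  obtain ⟨Q, hD, hC, hP⟩ := of_sheet (of_sheetE sheetE) ρ ρ_surj (fun x =>
    ⟨fun hx => ⟨x, hx, rfl⟩, fun ⟨y, hy, e⟩ => (Subtype.ext e : y = x) ▸ hy⟩) T W.not_dg W.cf W.phi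
  exact Box.congr e (box_of_phi (center_bot hD) Q hD hC hP out_index hF.1 hF.2)

end Cfsg.Agent.GAL.Spor
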