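import Cfsg.Agent.GAL.Spor.Loc
import Cfsg.Agent.ODD.Alt.Gal
import Cfsg.Agent.H72.ModelFacts
import Cfsg.Agent.H161.RowReeJ1
import Cfsg.Agent.OddHalf.D4.Spor.J1Out
import Cfsg.Agent.KFacts.J2.SheetX
import Cfsg.Agent.OddHalf.D8.RowJ3

/-!
# S4617 / S4618: the boxes of `J₁`, `J₂`, `J₃` (helper20, GAL)
-/

set_option autoImplicit false

namespace Cfsg.Agent.GAL.Spor

open Cfsg Cfsg.Spor Subgroup Equiv Cfsg.Agent.TAB.Use Cfsg.Agent.OddHalf.D8.JTwo.Sheet Cfsg.Agent.ODD.Alt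

universe u

theorem center_bot {S : Type u} [Group S] [IsSimpleGroup S] {Q : Sylow 2 S} (hD : ¬ DG Q) : center S = ⊥ := by
  rcases (inferInstance : (center S).Normal).eq_bot_or_eq_top with h | h
  · exact h
  · refine absurd (fun y _ _ => ?_) hD
    exact center_le_centralizer _ (h ▸ mem_top y)

/-! ### `A₅` -/

theorem sq_Q5 : ∀ y : A5, y * t5 = t5 * y → y ^ 2 = 1 := by decide +kernel

theorem one_of_Q5 {y : A5} (hy : y ∈ (Q5 : Subgroup A5)) (ho : Odd (orderOf y)) : y = 1 :=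
  eq_one_of_odd_of_mem Q5.isPGroup' hy ho

theorem cf5 : CF Q5 := fun _ hy ho =>
  one_of_Q5 (mem_Q5.2 (mem_centralizer_iff.1 hy t5 (mem_Q5.2 rfl)).symm) ho

/-- a second involution of `Q5` -/
def u5 : A5 := ⟨swap 0 2 * swap 1 3, Perm.mem_alternatingGroup.2 (by decide +kernel)⟩

set_option synthInstance.maxSize 4000 in
set_option synthInstance.maxHeartbeats 400000 in
theorem chk5 : ∀ s : Perm (Fin 5), Perm.sign s = -1 → s * t5 * s⁻¹ * t5 = t5 * (s * t5 * s⁻¹) →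
    s * u5 * s⁻¹ * t5 = t5 * (s * u5 * s⁻¹) → ∀ y : Perm (Fin 5), Perm.sign y = 1 →
      y * t5 * y⁻¹ * t5 = t5 * (y * t5 * y⁻¹) → y * u5 * y⁻¹ * t5 = t5 * (y * u5 * y⁻¹) →
      y⁻¹ * (s * y * s⁻¹) * t5 = t5 * (y⁻¹ * (s * y * s⁻¹)) → y * t5 = t5 * y := by decide +kernel

theorem phi5' (r : MulAut A5) (hn : ¬ Inner r) (hr : ∀ q ∈ (Q5 : Subgroup A5), r q ∈ (Q5 : Subgroup A5))
    (y : A5) (hy : y ∈ normalizer ((Q5 : Subgroup A5) : Set A5)) (ho : Odd (orderOf y))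
    (hm : y⁻¹ * r y ∈ (Q5 : Subgroup A5)) : y = 1 := by
  obtain ⟨s, rfl⟩ := (S2119.result 5 (by norm_num) (by norm_num)).2 r
  rw [inner_iff, Perm.mem_alternatingGroup] at hn
  have ht : t5 ∈ (Q5 : Subgroup A5) := mem_Q5.2 rfl
  have hu : u5 ∈ (Q5 : Subgroup A5) := mem_Q5.2 (by decide +kernel)
  refine one_of_Q5 (mem_Q5.2 (Subtype.ext (chk5 s ((Int.units_eq_one_or _).resolve_left hn)
    (congrArg Subtype.val (mem_Q5.1 (hr _ ht))) (congrArg Subtype.val (mem_Q5.1 (hr _ hu))) y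
    (Perm.mem_alternatingGroup.1 y.2) (congrArg Subtype.val (mem_Q5.1 ((mem_normalizer_iff.1 hy _).1 ht)))
    (congrArg Subtype.val (mem_Q5.1 ((mem_normalizer_iff.1 hy _).1 hu))) (congrArg Subtype.val (mem_Q5.1 hm))))) ho

theorem phi5 : Phi Q5 := fun r _ => phi5' r

/-! ### `J₂`, `J₃` -/

open Cfsg.Agent.J2Type.Model in
theorem box_of_model {S : Type} [Group S] [Finite S] [IsSimpleGroup S] {z : S} {Q : Subgroup (centralizer ({z} : Set S))}
    {z' : centralizer ({z} : Set S)} {v : Fin 5 → centralizer ({z} : Set S)} {ρ : centralizer ({z} : Set S) →* SP}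
    (M : IsModel Q z' v ρ) (h : SheetX z (centralizer ({z} : Set S)) (Q.map (centralizer ({z} : Set S)).subtype))
    (h2 : (MulAut.conj : S →* MulAut S).range.index = 1 ∨ (MulAut.conj : S →* MulAut S).range.index = 2)
    (hM : OddMoved S) (hA : OddSigAut S) : Box S := by
  obtain ⟨T, hD, hC, hP⟩ := of_sheet h (H72.ModelFacts.proj M) (H72.ModelFacts.proj_surj M) (fun x => by
    rw [← MonoidHom.mem_ker, H72.ModelFacts.proj_ker]
    exact ⟨fun hx => ⟨x, hx, rfl⟩, fun ⟨y, hy, e⟩ => (Subtype.ext e : y = x) ▸ hy⟩) Q5 not_dg5 cf5 phi5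
  exact box_of_phi (center_bot hD) T hD hC hP h2 hM hA

variable {S : Type} [Group S] [Finite S] [IsSimpleGroup S]

theorem box_j2 (h : IsoJ2 S) (hF : OddMoved J2 ∧ OddSigAut J2) : Box S := by
  obtain ⟨e⟩ := h
  have : Finite J2 := Finite.of_equiv _ e.toEquiv
  have : IsSimpleGroup J2 := e.symm.isSimpleGroup
  obtain ⟨t, u, Q, v, ρ, D⟩ := KFacts.J2.Basic.exists_dat
  exact Box.congr e (box_of_model D.M (KFacts.J2.SheetX.sheetX D) (KFacts.J2.SheetX.index_le D) hF.1 hF.2)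

theorem box_j3' (h : IsoJ3 S) (hF : OddMoved S ∧ OddSigAut S) : Box S := by
  obtain ⟨z, Q, v, ρ, M, -, h2, hE⟩ := OddHalf.D8.RowJ3.sheet' S h
  exact box_of_model M (of_sheetE hE) h2 hF.1 hF.2

theorem box_j3 (h : IsoJ3 S) (hF : ∀ (F : Type) [Field F] [Fintype F] (ω : F), Fintype.card F = 4 →
    ω ^ 2 + ω + 1 = 0 → OddMoved (J3 F ω) ∧ OddSigAut (J3 F ω)) : Box S := by
  obtain ⟨F, _, _, ω, h1, h2, ⟨e⟩⟩ := h
  have : Finite (J3 F ω) := Finite.of_equiv _ e.toEquiv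
  have : IsSimpleGroup (J3 F ω) := e.symm.isSimpleGroup
  exact Box.congr e (box_j3' ⟨F, _, _, ω, h1, h2, ⟨MulEquiv.refl _⟩⟩ (hF F ω h1 h2))

/-! ### `J₁` -/

theorem sq_zmod2 : ∀ a : Multiplicative (ZMod 2), a ^ 2 = 1 := by decide

theorem box_j1 (h : IsoJ1 S) (hF : OddMoved J1) : Box S := by
  have := fact2
  obtain ⟨e⟩ := h
  have : Finite J1 := Finite.of_equiv _ e.toEquiv
  have : IsSimpleGroup J1 := e.symm.isSimpleGroup
  refine Box.congr e ?_
  let Q : Sylow 2 J1 := default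
  have hsq := H161.RowReeJ1.j1_sq Q
  have hd : 2 ∣ Nat.card (Q : Subgroup J1) := Q.dvd_card_of_dvd_card (by rw [H413.JOneLocal.card_J1]; norm_num)
  obtain ⟨z, hz⟩ := exists_prime_orderOf_dvd_card' 2 hd
  obtain ⟨c⟩ := H413.JOneLocal.isLocal.cent (z : J1) (by rw [orderOf_coe, hz])
  have hQ : (Q : Subgroup J1) ≤ centralizer ({(z : J1)} : Set J1) := by
    intro x hx
    rw [mem_centralizer_singleton_iff]
    have h1 := hsq _ (mul_mem hx z.2)
    have h2 : x⁻¹ = x := inv_eq_of_mul_eq_one_right (hsq x hx)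
    have h3 : (z : J1)⁻¹ = z := inv_eq_of_mul_eq_one_right (hsq z z.2)
    rw [← inv_eq_of_mul_eq_one_right h1, mul_inv_rev, h2, h3]
  let π : centralizer ({(z : J1)} : Set J1) →* A5 := (MonoidHom.snd _ _).comp c.toMonoidHom
  have hs : Function.Surjective π := Prod.snd_surjective.comp c.surjective
  have hk : IsPGroup 2 π.ker := by
    intro x
    refine ⟨1, Subtype.ext (c.injective ?_)⟩
    have h1 : (c x).2 = 1 := x.2
    rw [pow_one, coe_pow, map_pow, coe_one, map_one]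
    exact Prod.ext (sq_zmod2 _) (by rw [Prod.pow_snd, h1, one_pow]; rfl)
  have hD : ¬ DG Q := not_dg_of_hom hQ π hs not_dg5
  exact box_of_inner (center_bot hD) (fun r _ => OddHalf.D4.Spor.J1Out.inn r) Q (iff_of_false hD
    (not_fg_of_moved Q (cf_of_hom hQ (centralizer_le (Set.singleton_subset_iff.2 z.2)) π hs hk cf5) hF))

end Cfsg.Agent.GAL.Spor
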