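import Cfsg.Agent.GAL.Red.Fwd
import Cfsg.Agent.OddHalf.CaseM.SheetX

/-!
# S4617 / S4618: groups with a Sylow normalizer `Q : 3` (helper20, GAL)

* `CF Q` : the centralizer of `Q` has no nontrivial elements of odd order;
* `Phi Q` : outer automorphisms of `2`-power order which normalize `Q` fix no coset of odd order in `N(Q)/Q`;
* `box_of_phi`, `phi_of_inv` (one automorphism which inverts `N(Q)/Q`), `cf_of_hom`, `not_dg_of_hom`, `phi_of_sheet`
  (reduction to the quotient of an involution centralizer).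
-/

set_option autoImplicit false
set_option linter.unusedSectionVars false

namespace Cfsg.Agent.GAL.Spor

open Cfsg Subgroup Cfsg.Agent.TAB.Use Cfsg.Agent.OddHalf.D8.JTwo.Sheet

universe u

variable {S : Type u} [Group S]

/-- no elements of odd order in the centralizer -/
def CF (Q : Sylow 2 S) : Prop := ∀ y ∈ centralizer ((Q : Subgroup S) : Set S), Odd (orderOf y) → y = 1

/-- the outer automorphisms move the cosets of odd order -/
def Phi (Q : Sylow 2 S) : Prop :=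
  ∀ r : MulAut S, (∃ k : ℕ, r ^ 2 ^ k = 1) → ¬ Inner r → (∀ q ∈ (Q : Subgroup S), r q ∈ (Q : Subgroup S)) →
    ∀ y ∈ normalizer ((Q : Subgroup S) : Set S), Odd (orderOf y) → y⁻¹ * r y ∈ (Q : Subgroup S) → y = 1

theorem inner_iff_mem {r : MulAut S} : Inner r ↔ r ∈ (MulAut.conj : S →* MulAut S).range :=
  ⟨fun ⟨s, h⟩ => ⟨s, h.symm⟩, fun ⟨s, h⟩ => ⟨s, h.symm⟩⟩

theorem conj_conj (r : MulAut S) (s : S) : MulAut.conj (r s) = r * MulAut.conj s * r⁻¹ := by
  ext x
  simp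

theorem normal_inn : (MulAut.conj : S →* MulAut S).range.Normal :=
  ⟨by
    rintro _ ⟨s, rfl⟩ r
    exact ⟨r s, conj_conj r s⟩⟩

theorem mem_smul_iff (g : S) (P : Sylow 2 S) (x : S) :
    x ∈ ((g • P : Sylow 2 S) : Subgroup S) ↔ g⁻¹ * x * g ∈ (P : Subgroup S) := by
  rw [Sylow.coe_subgroup_smul, Subgroup.mem_pointwise_smul_iff_inv_smul_mem, ← map_inv, MulAut.smul_def,
    MulAut.conj_apply, inv_inv]

/-- `Phi` does not depend on the Sylow subgroup -/
theorem Phi.sylow [Finite S] {P : Sylow 2 S} (h : Phi P) (Q : Sylow 2 S) : Phi Q := by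
  have := fact2
  obtain ⟨g, rfl⟩ := MulAction.exists_smul_eq S P Q
  intro r hr hn hQ y hy ho hm
  let r' : MulAut S := (MulAut.conj g)⁻¹ * r * MulAut.conj g
  have hr' : ∀ x, r' x = g⁻¹ * r (g * x * g⁻¹) * g := fun x => by simp [r']
  have h1 := h r' (by
      obtain ⟨k, hk⟩ := hr
      refine ⟨k, ?_⟩
      have h2 : r' = (MulAut.conj g)⁻¹ * r * (MulAut.conj g)⁻¹⁻¹ := by rw [inv_inv]
      rw [h2, conj_pow, hk, mul_one, mul_inv_cancel])
    (by
      rw [inner_iff_mem] at hn ⊢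
      intro h2
      apply hn
      have h3 := normal_inn.conj_mem _ h2 (MulAut.conj g)
      rwa [show MulAut.conj g * r' * (MulAut.conj g)⁻¹ = r by simp only [r']; group] at h3)
    (fun q hq => by
      rw [hr', ← mem_smul_iff]
      refine hQ _ ?_
      rw [mem_smul_iff, show g⁻¹ * (g * q * g⁻¹) * g = q by group]
      exact hq)
    (g⁻¹ * y * g)
    (by
      refine mem_normalizer_fintype fun x hx => ?_
      have h2 := (mem_normalizer_iff.1 hy (g * x * g⁻¹)).1 (by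
        rw [mem_smul_iff, show g⁻¹ * (g * x * g⁻¹) * g = x by group]
        exact hx)
      rw [mem_smul_iff] at h2
      rw [show g⁻¹ * y * g * x * (g⁻¹ * y * g)⁻¹ = g⁻¹ * (y * (g * x * g⁻¹) * y⁻¹) * g by group]
      exact h2)
    (by
      have h3 := orderOf_conj' g⁻¹ y
      rw [inv_inv] at h3
      rwa [h3])
    (by
      rw [mem_smul_iff] at hm
      rw [hr', show g * (g⁻¹ * y * g) * g⁻¹ = y by group,
        show (g⁻¹ * y * g)⁻¹ * (g⁻¹ * r y * g) = g⁻¹ * (y⁻¹ * r y) * g by group]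
      exact hm)
  rw [show y = g * (g⁻¹ * y * g) * g⁻¹ by group, h1]
  group

/-- `CF` does not depend on the Sylow subgroup -/
theorem CF.sylow [Finite S] {P : Sylow 2 S} (h : CF P) (Q : Sylow 2 S) : CF Q := by
  have := fact2
  obtain ⟨g, rfl⟩ := MulAction.exists_smul_eq S P Q
  intro y hy ho
  have h1 := h (g⁻¹ * y * g) (by
      rw [mem_centralizer_iff]
      intro x hx
      have h2 := mem_centralizer_iff.1 hy (g * x * g⁻¹) (by
        show g * x * g⁻¹ ∈ ((g • P : Sylow 2 S) : Subgroup S)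
        rw [mem_smul_iff, show g⁻¹ * (g * x * g⁻¹) * g = x by group]
        exact hx)
      calc x * (g⁻¹ * y * g) = g⁻¹ * (g * x * g⁻¹ * y) * g := by group
        _ = g⁻¹ * y * g * x := by rw [h2]; group)
    (by
      have h3 := orderOf_conj' g⁻¹ y
      rw [inv_inv] at h3
      rwa [h3])
  rw [show y = g * (g⁻¹ * y * g) * g⁻¹ by group, h1]
  group

theorem Phi.dd [Finite S] {Q : Sylow 2 S} (h : Phi Q) (hZ : center S = ⊥) {R : Subgroup (MulAut S)} (hR : Frame Q R)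
    (hr : ∃ r ∈ R, ¬ Inner r) : DD Q R := by
  obtain ⟨r, hr, hr'⟩ := hr
  intro y ho hy
  have h1 : y⁻¹ ∈ normalizer ((Q : Subgroup S) : Set S) := by
    refine mem_normalizer_fintype fun q hq => ?_
    have h2 := hy _ (hR.inn q hq)
    rw [MulAut.conj_apply] at h2
    have h3 := (Q : Subgroup S).mul_mem h2 hq
    rw [inv_inv]
    rw [show y⁻¹ * (q * y * q⁻¹) * q = y⁻¹ * q * y by group] at h3
    exact h3
  obtain ⟨k, hk⟩ := hR.two ⟨r, hr⟩
  have h2 := h r ⟨k, congrArg Subtype.val hk⟩ hr' (fun q hq => hR.map_mem hZ hr hq) y (by simpa using inv_mem h1) ho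
    (hy r hr)
  exact fun r _ => by rw [h2, map_one]

theorem two_of_index (h : (MulAut.conj : S →* MulAut S).range.index = 1 ∨
    (MulAut.conj : S →* MulAut S).range.index = 2) (r r' : MulAut S) (hr : ¬ Inner r) (hr' : ¬ Inner r') :
    Inner (r' * r⁻¹) := by
  rw [inner_iff_mem] at hr hr' ⊢
  rcases h with h | h
  · rw [index_eq_one.1 h]
    exact mem_top _
  · exact (mul_mem_iff_of_index_two h).2 (iff_of_false hr' fun e => hr (inv_mem_iff.1 e))

/-- **the rows with a Sylow normalizer `Q : 3`** -/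
theorem box_of_phi [Finite S] (hZ : center S = ⊥) (Q : Sylow 2 S) (hD : ¬ DG Q) (hC : CF Q) (hP : Phi Q)
    (h2 : (MulAut.conj : S →* MulAut S).range.index = 1 ∨ (MulAut.conj : S →* MulAut S).range.index = 2)
    (hM : OddMoved S) (hA : OddSigAut S) : Box S :=
  box_of_cases hZ Q (iff_of_false hD (not_fg_of_moved Q hC hM)) fun Q' _ hR h =>
    iff_of_true ((hP.sylow Q').dd hZ hR h) (ff_of_aut (two_of_index h2) hA h)

/-- one automorphism which inverts `N(Q)/Q` -/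
theorem phi_of_inv [Finite S] (Q : Sylow 2 S)
    (h2 : (MulAut.conj : S →* MulAut S).range.index = 1 ∨ (MulAut.conj : S →* MulAut S).range.index = 2) {w : S}
    (hw : w ∈ normalizer ((Q : Subgroup S) : Set S)) (h3 : w ^ 3 = 1) (hw1 : w ≠ 1)
    (hN : ∀ g ∈ normalizer ((Q : Subgroup S) : Set S), ∃ s ∈ (Q : Subgroup S), ∃ k : ℕ, g = s * w ^ k)
    (φ : MulAut S) (hφ : ∀ q ∈ (Q : Subgroup S), φ q ∈ (Q : Subgroup S)) (hφw : φ w * w ∈ (Q : Subgroup S)) :
    Phi Q := by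
  let N : Subgroup S := normalizer ((Q : Subgroup S) : Set S)
  let K : Subgroup N := (Q : Subgroup S).subgroupOf N
  have : K.Normal := normal_in_normalizer
  let π : N →* N ⧸ K := QuotientGroup.mk' K
  have hπ : ∀ x : N, π x = 1 ↔ (x : S) ∈ (Q : Subgroup S) := fun x => QuotientGroup.eq_one_iff x
  let ω : N ⧸ K := π ⟨w, hw⟩
  have hω3 : ω ^ 3 = 1 := by
    rw [← map_pow, show (⟨w, hw⟩ : N) ^ 3 = 1 from Subtype.ext h3, map_one]
  have hcyc : ∀ x : N, ∃ k : ℕ, π x = ω ^ k := by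
    intro x
    obtain ⟨s, hs, k, hk⟩ := hN x x.2
    refine ⟨k, ?_⟩
    rw [show x = ⟨s, le_normalizer hs⟩ * ⟨w, hw⟩ ^ k from Subtype.ext hk, map_mul, (hπ _).2 hs, one_mul, map_pow]
  have hcomm : ∀ x y : N, π x * π y = π y * π x := by
    intro x y
    obtain ⟨k, hk⟩ := hcyc x
    obtain ⟨l, hl⟩ := hcyc y
    rw [hk, hl, pow_mul_comm]
  have hnorm : ∀ (r : MulAut S), (∀ q ∈ (Q : Subgroup S), r q ∈ (Q : Subgroup S)) → ∀ x ∈ N, r x ∈ N := by
    intro r hr x hx
    have hsurj : Set.SurjOn r (Q : Subgroup S) (Q : Subgroup S) :=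
      ((Set.toFinite _).injOn_iff_bijOn_of_mapsTo hr).1 r.injective.injOn |>.surjOn
    refine mem_normalizer_fintype fun q hq => ?_
    obtain ⟨p, hp, rfl⟩ := hsurj hq
    rw [← map_inv, ← map_mul, ← map_mul]
    exact hr _ ((mem_normalizer_iff.1 hx p).1 hp)
  have hω1 : ω ≠ 1 := fun h => hw1 (eq_one_of_odd_of_mem Q.isPGroup' ((hπ _).1 h)
    (Odd.of_dvd_nat (by decide : Odd 3) (orderOf_dvd_of_pow_eq_one h3)))
  have hφω : π ⟨φ w, hnorm φ hφ w hw⟩ = ω⁻¹ := by
    rw [eq_inv_iff_mul_eq_one, ← map_mul, hπ]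
    exact hφw
  have hinv : ∀ (r : MulAut S), (∀ q ∈ (Q : Subgroup S), r q ∈ (Q : Subgroup S)) →
      ∀ q ∈ (Q : Subgroup S), r⁻¹ q ∈ (Q : Subgroup S) := by
    intro r hr q hq
    have hsurj : Set.SurjOn r (Q : Subgroup S) (Q : Subgroup S) :=
      ((Set.toFinite _).injOn_iff_bijOn_of_mapsTo hr).1 r.injective.injOn |>.surjOn
    obtain ⟨p, hp, rfl⟩ := hsurj hq
    rwa [MulAut.inv_apply_self]
  have hsq : ∀ x : N ⧸ K, x ^ 3 = 1 → x⁻¹ = x → x = 1 := by
    intro x h1 h4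
    calc x = x ^ 3 * (x⁻¹ * x⁻¹) := by group
      _ = 1 := by
        rw [h1, one_mul]
        nth_rw 2 [h4]
        exact inv_mul_cancel x
  have hφn : ¬ Inner φ := by
    rintro ⟨g, rfl⟩
    have hg : g ∈ N := mem_normalizer_fintype fun q hq => hφ q hq
    apply hω1
    refine hsq ω hω3 ?_
    rw [← hφω, show (⟨MulAut.conj g w, hnorm _ hφ w hw⟩ : N) = ⟨g, hg⟩ * ⟨w, hw⟩ * ⟨g, hg⟩⁻¹ from rfl, map_mul,
      map_mul, map_inv, hcomm, mul_inv_cancel_right]
  intro r _ hn hr y hy ho hm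
  obtain ⟨g, hg⟩ := two_of_index h2 φ r hφn hn
  have hgN : g ∈ N := mem_normalizer_fintype fun q hq => by
    have h4 := hr _ (hinv φ hφ q hq)
    rwa [← MulAut.mul_apply, hg] at h4
  have hrw : π ⟨r w, hnorm r hr w hw⟩ = ω⁻¹ := by
    have h4 : r w = g * φ w * g⁻¹ := by
      rw [← MulAut.conj_apply, ← hg]
      simp
    rw [show (⟨r w, hnorm r hr w hw⟩ : N) = ⟨g, hgN⟩ * ⟨φ w, hnorm φ hφ w hw⟩ * ⟨g, hgN⟩⁻¹ from Subtype.ext h4,
      map_mul, map_mul, map_inv, hcomm, mul_inv_cancel_right, hφω]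
  obtain ⟨s, hs, k, hk⟩ := hN y hy
  have h5 : π ⟨y, hy⟩ = ω ^ k := by
    rw [show (⟨y, hy⟩ : N) = ⟨s, le_normalizer hs⟩ * ⟨w, hw⟩ ^ k from Subtype.ext hk, map_mul, (hπ _).2 hs, one_mul,
      map_pow]
  have h6 : π ⟨r y, hnorm r hr y hy⟩ = (ω ^ k)⁻¹ := by
    rw [show (⟨r y, hnorm r hr y hy⟩ : N) = ⟨r s, le_normalizer (hr s hs)⟩ * ⟨r w, hnorm r hr w hw⟩ ^ k from
      Subtype.ext (by rw [coe_mul, coe_pow, ← map_pow, ← map_mul, ← hk]), map_mul, (hπ _).2 (hr s hs), one_mul,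
      map_pow, hrw, inv_pow]
  have h7 : π (⟨y, hy⟩⁻¹ * ⟨r y, hnorm r hr y hy⟩) = 1 := (hπ _).2 hm
  rw [map_mul, map_inv, h5, h6, inv_mul_eq_one] at h7
  have h8 : ω ^ k = 1 := hsq _ (by rw [← pow_mul, mul_comm, pow_mul, hω3, one_pow]) h7.symm
  exact eq_one_of_odd_of_mem Q.isPGroup' ((hπ _).1 (h5.trans h8)) ho

section hom

variable [Finite S] {L : Type u} [Group L] [Finite L] {Q : Sylow 2 S} {C : Subgroup S}

/-- the image of the Sylow subgroup -/
noncomputable def im (hQ : (Q : Subgroup S) ≤ C) (π : C →* L) (hs : Function.Surjective π) : Sylow 2 L :=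
  haveI := fact2
  (Q.subtype hQ).mapSurjective hs

theorem mem_im {hQ : (Q : Subgroup S) ≤ C} {π : C →* L} {hs : Function.Surjective π} {l : L} :
    l ∈ (im hQ π hs : Subgroup L) ↔ ∃ x : C, (x : S) ∈ (Q : Subgroup S) ∧ π x = l := Iff.rfl

theorem not_dg_of_hom (hQ : (Q : Subgroup S) ≤ C) (π : C →* L) (hs : Function.Surjective π) {T : Sylow 2 L}
    (h : ¬ DG T) : ¬ DG Q := fun hD => h (((hD.sub hQ).quot π hs).sylow T)

theorem odd_map (π : C →* L) {y : C} (ho : Odd (orderOf (y : S))) : Odd (orderOf (π y)) :=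
  Odd.of_dvd_nat (by rwa [orderOf_coe] at ho) (orderOf_map_dvd π y)

theorem cf_of_hom (hQ : (Q : Subgroup S) ≤ C) (hC : centralizer ((Q : Subgroup S) : Set S) ≤ C) (π : C →* L)
    (hs : Function.Surjective π) (hk : IsPGroup 2 π.ker) {T : Sylow 2 L} (h : CF T) : CF Q := by
  intro y hy ho
  have h1 := h.sylow (im hQ π hs) (π ⟨y, hC hy⟩) (by
    rw [mem_centralizer_iff]
    intro l hl
    obtain ⟨x, hx, rfl⟩ := mem_im.1 hl
    rw [← map_mul, ← map_mul]
    congr 1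
    exact Subtype.ext (mem_centralizer_iff.1 hy x hx)) (odd_map π ho)
  exact congrArg Subtype.val (eq_one_of_odd_of_mem hk (y := ⟨y, hC hy⟩) h1 (by rwa [← orderOf_coe]))

end hom

section sheet

variable [Finite S] {L : Type u} [Group L] [Finite L] {z : S} {P R : Subgroup S}

theorem fix_z {Q : Sylow 2 S} (hz1 : z ≠ 1) (hz : z ∈ (Q : Subgroup S)) (hc : ∀ x ∈ (Q : Subgroup S), x * z = z * x)
    (hu : ∀ y ∈ (Q : Subgroup S), (∀ x ∈ (Q : Subgroup S), x * y = y * x) → y = 1 ∨ y = z) {r : MulAut S}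
    (hr : ∀ q ∈ (Q : Subgroup S), r q ∈ (Q : Subgroup S)) : r z = z := by
  have hsurj : Set.SurjOn r (Q : Subgroup S) (Q : Subgroup S) :=
    ((Set.toFinite _).injOn_iff_bijOn_of_mapsTo hr).1 r.injective.injOn |>.surjOn
  rcases hu (r z) (hr z hz) (fun x hx => by
    obtain ⟨p, hp, rfl⟩ := hsurj hx
    rw [← map_mul, ← map_mul, hc p hp]) with h | h
  · exact absurd ((map_eq_one_iff r r.injective).1 h) hz1
  · exact h

theorem map_cent {r : MulAut S} (hr : r z = z) {x : S} (hx : x ∈ centralizer ({z} : Set S)) :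
    r x ∈ centralizer ({z} : Set S) := by
  rw [mem_centralizer_singleton_iff] at hx ⊢
  rw [← hr, ← map_mul, ← map_mul, hx]

/-- the induced automorphism -/
theorem exists_ind (h : SheetX z P R) (π : centralizer ({z} : Set S) →* L) (hs : Function.Surjective π)
    (hk : ∀ x, π x = 1 ↔ (x : S) ∈ R) {r : MulAut S} (hr : r z = z) :
    ∃ β : MulAut L, ∀ x : centralizer ({z} : Set S), π ⟨r x, map_cent hr x.2⟩ = β (π x) := by
  let f : centralizer ({z} : Set S) →* centralizer ({z} : Set S) :=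
    (r.toMonoidHom.comp (centralizer ({z} : Set S)).subtype).codRestrict _ fun x => map_cent hr x.2
  have hf : Function.Surjective f :=
    Finite.surjective_of_injective fun a b hab => Subtype.ext (r.injective (congrArg Subtype.val hab))
  let g : L →* L := π.liftOfSurjective hs ⟨π.comp f, fun x hx =>
    (hk _).2 (OddHalf.CaseM.X.map_R h r hr ((hk x).1 hx))⟩
  have hg : ∀ x, g (π x) = π (f x) := fun x => π.liftOfRightInverse_comp_apply _ _ _ x
  have hg' : Function.Surjective g := by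
    intro l
    obtain ⟨x, rfl⟩ := hs l
    obtain ⟨y, rfl⟩ := hf x
    exact ⟨π y, hg y⟩
  exact ⟨MulEquiv.ofBijective g ⟨Finite.injective_iff_surjective.2 hg', hg'⟩, fun x => (hg x).symm⟩

theorem pow_fix {r : MulAut S} (hr : r z = z) (n : ℕ) : (r ^ n) z = z := by
  induction n with
  | zero => rfl
  | succ n ih => rw [pow_succ, MulAut.mul_apply, hr, ih]

/-- an automorphism which fixes `z` and is trivial on `C(z)/R` is inner, if a `2`-power of it is inner -/
theorem inner_of_triv (h : SheetX z P R) {r : MulAut S} (hr : r z = z) {k : ℕ} (h2 : Inner (r ^ 2 ^ k))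
    (ht : ∀ x ∈ P, x⁻¹ * r x ∈ R) : Inner r := by
  have := fact2
  obtain ⟨a, m, hm, ham⟩ := Nat.exists_eq_two_pow_mul_odd (orderOf_pos r).ne'
  have h1 : ∀ n : ℕ, ∀ x ∈ P, x⁻¹ * (r ^ n) x ∈ R := by
    intro n x hx
    induction n with
    | zero => simp
    | succ n ih =>
      have h3 := R.mul_mem (ht x hx) (OddHalf.CaseM.X.map_R h r hr ih)
      rw [map_mul, map_inv, mul_assoc, mul_inv_cancel_left] at h3
      rwa [pow_succ', MulAut.mul_apply]
  obtain ⟨s, -, hs⟩ := h.aut (r ^ m) (IsPGroup.of_card_dvd_pow (n := a) (by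
    rw [Nat.card_zpowers]
    apply orderOf_dvd_of_pow_eq_one
    rw [← pow_mul, mul_comm, ← ham, pow_orderOf_eq_one])) (pow_fix hr m) (h1 m)
  rw [inner_iff_mem] at h2 ⊢
  have h3 : r ^ m ∈ (MulAut.conj : S →* MulAut S).range := ⟨s, hs.symm⟩
  have h4 : Nat.Coprime m (2 ^ k) := (Nat.coprime_two_right.2 hm).pow_right k
  have h5 : r = (r ^ m) ^ Nat.gcdA m (2 ^ k) * (r ^ 2 ^ k) ^ Nat.gcdB m (2 ^ k) := by
    rw [← zpow_natCast, ← zpow_natCast, ← zpow_mul, ← zpow_mul, ← zpow_add, ← Nat.gcd_eq_gcd_ab, h4.gcd_eq_one]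
    simp
  rw [h5]
  exact mul_mem (zpow_mem h3 _) (zpow_mem h2 _)

/-- **reduction to `C(z)/R`** -/
theorem of_sheet (h : SheetX z P R) (π : centralizer ({z} : Set S) →* L) (hs : Function.Surjective π)
    (hk : ∀ x, π x = 1 ↔ (x : S) ∈ R) (T : Sylow 2 L) (hD : ¬ DG T) (hC : CF T) (hP : Phi T) :
    ∃ Q : Sylow 2 S, ¬ DG Q ∧ CF Q ∧ Phi Q := by
  obtain ⟨Q, hz, hc, hu⟩ := h.syl
  have hQ : (Q : Subgroup S) ≤ centralizer ({z} : Set S) := fun x hx => mem_centralizer_singleton_iff.2 (hc x hx)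
  have hk2 : IsPGroup 2 π.ker := by
    have h1 : π.ker = R.subgroupOf (centralizer ({z} : Set S)) := Subgroup.ext hk
    rw [h1]
    exact h.R2.comap_subtype
  refine ⟨Q, not_dg_of_hom hQ π hs hD, cf_of_hom hQ (centralizer_le (Set.singleton_subset_iff.2 hz)) π hs hk2 hC, ?_⟩
  intro r ⟨k, hrk⟩ hn hr y hy ho hm
  have hrz : r z = z := fix_z h.z1 hz hc hu hr
  have hyz : y ∈ centralizer ({z} : Set S) := by
    have h1 : MulAut.conj y z = z := fix_z h.z1 hz hc hu fun q hq => (mem_normalizer_iff.1 hy q).1 hq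
    rw [mem_centralizer_singleton_iff]
    exact mul_inv_eq_iff_eq_mul.1 h1
  obtain ⟨β, hβ⟩ := exists_ind h π hs hk hrz
  have hpow : ∀ (n : ℕ) (x : centralizer ({z} : Set S)),
      π ⟨(r ^ n) x, map_cent (pow_fix hrz n) x.2⟩ = (β ^ n) (π x) := by
    intro n x
    induction n with
    | zero => rfl
    | succ n ih =>
      rw [pow_succ' β, MulAut.mul_apply, ← ih, ← hβ]
      congr 2
      rw [pow_succ']
      rfl
  have h1 := hP.sylow (im hQ π hs) β ⟨k, by
      ext l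
      obtain ⟨x, rfl⟩ := hs l
      rw [← hpow]
      simp only [hrk, MulAut.one_apply]⟩
    (by
      rintro ⟨l, rfl⟩
      obtain ⟨c, rfl⟩ := hs l
      apply hn
      have h2 : Inner ((MulAut.conj (c : S))⁻¹ * r) := by
        refine inner_of_triv h (k := k) ?_ ?_ fun x hx => ?_
        · rw [MulAut.mul_apply, hrz, ← map_inv, MulAut.conj_apply, mem_centralizer_singleton_iff.1 (inv_mem c.2),
            mul_inv_cancel_right]
        · have := normal_inn (S := S)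
          rw [inner_iff_mem, ← QuotientGroup.eq_one_iff, QuotientGroup.mk_pow, QuotientGroup.mk_mul,
            (QuotientGroup.eq_one_iff _).2 (inv_mem (inner_iff_mem.1 ⟨(c : S), rfl⟩)), one_mul, ← QuotientGroup.mk_pow, hrk]
          rfl
        · have hx' : x ∈ centralizer ({z} : Set S) := mem_centralizer_singleton_iff.2 (h.cen x hx)
          have h3 := (hk (⟨x, hx'⟩⁻¹ * (c⁻¹ * ⟨r x, map_cent hrz hx'⟩ * c))).1 (by
            rw [map_mul, map_mul, map_mul, map_inv, map_inv, hβ ⟨x, hx'⟩, MulAut.conj_apply]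
            group)
          simpa using h3
      rw [inner_iff_mem] at h2 ⊢
      exact (Subgroup.mul_mem_cancel_left _ (inv_mem (inner_iff_mem.1 ⟨(c : S), rfl⟩))).1 h2)
    (by
      intro l hl
      obtain ⟨x, hx, rfl⟩ := mem_im.1 hl
      exact mem_im.2 ⟨_, hr x hx, hβ x⟩)
    (π ⟨y, hyz⟩)
    (by
      refine mem_normalizer_fintype fun l hl => ?_
      obtain ⟨x, hx, rfl⟩ := mem_im.1 hl
      exact mem_im.2 ⟨⟨y, hyz⟩ * x * ⟨y, hyz⟩⁻¹, (mem_normalizer_iff.1 hy x).1 hx, by rw [map_mul, map_mul, map_inv]⟩)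
    (odd_map π ho)
    (mem_im.2 ⟨⟨y, hyz⟩⁻¹ * ⟨r y, map_cent hrz hyz⟩, hm, by rw [map_mul, map_inv, hβ ⟨y, hyz⟩]⟩)
  exact eq_one_of_odd_of_mem h.R2 ((hk _).1 h1) ho

end sheet

end Cfsg.Agent.GAL.Spor
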