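import Cfsg.Agent.GAL.Spor.Janko
import Cfsg.Agent.H895.Pron.SuzB
import Cfsg.Agent.KFacts.SuzInvol

/-!
# S4617 / S4618: the box of `Suz` (helper20, GAL)

An automorphism which normalizes the Sylow subgroup `T` and inverts `N(T)/T`.
-/

set_option autoImplicit false
set_option maxRecDepth 100000

namespace Cfsg.Agent.GAL.Spor.Sz

open Cfsg Cfsg.Spor Subgroup Cfsg.Agent.TAB.Use Cfsg.Agent.SuzThree.CentA Cfsg.Agent.SuzThree.QZero
  Cfsg.Agent.KFacts.Codes Cfsg.Agent.KFacts.Orbits Cfsg.Agent.H895.Pron.SuzS Cfsg.Agent.H895.Pron.SuzB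
  Cfsg.Agent.KFacts.SuzRho Cfsg.Agent.KFacts.SuzInvol Cfsg.Agent.KFacts.SuzInvolTab

open Cfsg.Agent.KFacts.SuzR hiding s1 s2
open Cfsg.Agent.Schreier.Suz (T T₀)

/-- the correcting element -/
noncomputable def gz : Suz := gg 3 * (gg 0 * (gg 3 * (gg 2 * (gg 0 * (gg 2 * gg 0)))))

/-- the automorphism -/
noncomputable def ph : MulAut Suz := MulAut.conj gz * rho

/-- its action on codes -/
def fc (c : ℕ) : ℕ := AA 3 (AA 0 (AA 3 (AA 2 (AA 0 (AA 2 (AA 0 (act BB 6 (img rl) c)))))))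

theorem ph_z : ph z0 = z0 := by
  have h : gz ∈ C1 := mul_mem (gg_mem 3) (mul_mem (gg_mem 0) (mul_mem (gg_mem 3) (mul_mem (gg_mem 2)
    (mul_mem (gg_mem 0) (mul_mem (gg_mem 2) (gg_mem 0))))))
  rw [ph, MulAut.mul_apply, rho_z, MulAut.conj_apply, mem_C1.1 h, mul_inv_cancel_right]

theorem ph_C (c : ℕ) : ph (C c) = C (fc c) := by
  rw [ph, MulAut.mul_apply, map_act rho_z rho_xx, fc, ← conj_AA, ← conj_AA, ← conj_AA, ← conj_AA, ← conj_AA,
    ← conj_AA, ← conj_AA, MulAut.conj_apply, gz]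
  group

theorem ph_flag {x : Suz} (hx : x ∈ normalizer (T : Set Suz)) : ∃ s ∈ T, ∃ k : ℕ, ph x = s * w ^ k := by
  obtain ⟨h0, h1, h2⟩ := N_T hx
  have key : ∀ (l : List ℕ), (∀ c ∈ l, fc c ∈ l) → (∀ c ∈ l, ∃ d ∈ l, fc d = c) →
      (∀ a, (∃ c ∈ l, C c = a) → ∃ c ∈ l, C c = x * a * x⁻¹) →
      ∀ a, (∃ c ∈ l, C c = a) → ∃ c ∈ l, C c = ph x * a * (ph x)⁻¹ := by
    rintro l e1 e2 e3 _ ⟨c, hc, rfl⟩
    obtain ⟨d, hd, rfl⟩ := e2 c hc
    obtain ⟨d', hd', e⟩ := e3 _ ⟨d, hd, rfl⟩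
    exact ⟨fc d', e1 d' hd', by rw [← ph_C, ← ph_C, e, map_mul, map_mul, map_inv]⟩
  refine of_flag ?_ (key lA1 (by decide +kernel) (by decide +kernel) h1)
    (key lA2 (by decide +kernel) (by decide +kernel) h2)
  rw [← ph_z, ← map_mul, ← map_mul, h0]

theorem ph_T {t : Suz} (ht : t ∈ T) : ph t ∈ T := by
  have := fact2
  obtain ⟨s, hs, k, hk⟩ := ph_flag (le_normalizer ht)
  have h1 : ph t ∈ normalizer (T : Set Suz) := hk ▸ mul_mem (le_normalizer hs) (pow_mem w_normalizer k)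
  have h2 := (T₀.isPGroup'.map ph.toMonoidHom).inf_normalizer_sylow T₀
  have h3 : ph t ∈ (T₀ : Subgroup Suz).map ph.toMonoidHom ⊓ normalizer ((T₀ : Subgroup Suz) : Set Suz) :=
    ⟨⟨t, ht, rfl⟩, h1⟩
  exact (h2.le h3).2

/-- a coset of `A2` -/
def l6 : List ℕ := [6, 7, 14, 15, 70, 71, 78, 79]

/-- the coset -/
def S6 : Set Suz := {g | ∃ c ∈ l6, C c = g}

theorem mem_of_act {g : Suz} {l : List ℕ} (h : Act g l) (hl : ∀ c ∈ l6, act BB 6 (img l) c ∈ l6) :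
    g ∈ normalizer S6 := by
  have := SporadicRecognition.SuzOrder.finiteSuz
  refine mem_normalizer_fintype ?_
  rintro _ ⟨c, hc, rfl⟩
  exact ⟨_, hl c hc, (h.conj c).symm⟩

theorem T_le : T ≤ normalizer S6 := by
  rw [Schreier.Suz.T_def, closure_le]
  exact Schreier.Suz.forall_S (mem_of_act act_s1 (by decide +kernel)) (mem_of_act act_s2 (by decide +kernel))
    (mem_of_act act_s3 (by decide +kernel)) (mem_of_act act_s4 (by decide +kernel))

theorem w_not : w ∉ normalizer S6 := by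
  intro h
  obtain ⟨c, hc, e⟩ := (mem_set_normalizer_iff.1 h (C 6)).1 ⟨6, by decide, rfl⟩
  rw [act_w.conj] at e
  have h1 : ∀ c ∈ l6, c < 128 ∧ c ≠ act BB 6 (img l_w) 6 := by decide +kernel
  exact (h1 c hc).2 (C_inj' (h1 c hc).1 (by decide +kernel) e)

theorem ph_w : ph w * w ∈ T := by
  have := SporadicRecognition.SuzOrder.finiteSuz
  obtain ⟨s, hs, k, hk⟩ := ph_flag w_normalizer
  have h1 : ph w * w ∈ normalizer S6 := by
    refine mem_normalizer_fintype ?_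
    rintro _ ⟨c, hc, rfl⟩
    have h2 : ∀ c ∈ l6, ∃ d < 128, fc d = act BB 6 (img l_w) c ∧ fc (act BB 6 (img l_w) d) ∈ l6 := by decide +kernel
    obtain ⟨d, -, h3, h4⟩ := h2 c hc
    refine ⟨_, h4, ?_⟩
    rw [← ph_C, ← act_w.conj, map_mul, map_mul, map_inv, ph_C, h3, ← act_w.conj]
    group
  rw [hk, mul_assoc, ← pow_succ] at h1 ⊢
  have h2 := (Subgroup.mul_mem_cancel_left _ (T_le hs)).1 h1
  rw [pow_eq_pow_mod _ w3] at h2 ⊢
  have h3 : (k + 1) % 3 = 0 ∨ (k + 1) % 3 = 1 ∨ (k + 1) % 3 = 2 := by omega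
  rcases h3 with h3 | h3 | h3 <;> rw [h3] at h2 ⊢
  · rwa [pow_zero, mul_one]
  · exact absurd (pow_one w ▸ h2) w_not
  · refine absurd ?_ w_not
    rw [show w = (w ^ 2) ^ 2 by rw [← pow_mul, show 2 * 2 = 3 + 1 from rfl, pow_succ, w3, one_mul]]
    exact pow_mem h2 2

theorem cf : CF T₀ := by
  intro y hy ho
  rcases centralizer_R (fun x hx => mem_centralizer_iff.1 hy x (Q0_le_T hx)) with h | h
  · exact h
  · exact eq_one_of_odd_of_mem T₀.isPGroup' (h ▸ Q0_le_T z_mem) ho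

theorem not_dg : ¬ DG T₀ := fun h => by
  have ho : Odd (orderOf w) := Odd.of_dvd_nat (by decide : Odd 3) (orderOf_dvd_of_pow_eq_one w3)
  exact w_ne (cf w (h w w_normalizer ho) ho)

theorem phi : Phi T₀ := by
  have := SporadicRecognition.SuzOrder.finiteSuz
  exact phi_of_inv T₀ KFacts.SuzOut.index_eq w_normalizer w3 w_ne (fun _ hg => exists_of_mem_B (N_le_B hg)) ph
    (fun _ => ph_T) ph_w

theorem box_suz {S : Type} [Group S] [Finite S] [IsSimpleGroup S] (h : IsoSuz S)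
    (hF : OddMoved Suz ∧ OddSigAut Suz) : Box S := by
  obtain ⟨e⟩ := h
  have : Finite Suz := Finite.of_equiv _ e.toEquiv
  have : IsSimpleGroup Suz := e.symm.isSimpleGroup
  exact Box.congr e (box_of_phi (center_bot not_dg) T₀ not_dg cf phi KFacts.SuzOut.index_eq hF.1 hF.2)

end Cfsg.Agent.GAL.Spor.Sz
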