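import Cfsg.Agent.GAL.Spor.Self
import Cfsg.Agent.GAL.Spor.HN
import Cfsg.Agent.GAL.Spor.Suz

/-!
# S4617 / S4618: the sporadic row from the tables (helper20, GAL)

`SporInG` : what the tables deliver; `spor_of : SporInG → RowG IsSporadicGroup`, `tits_of`.
-/

set_option autoImplicit false

namespace Cfsg.Agent.GAL.Spor

open Cfsg Cfsg.Spor Cfsg.Agent.TAB.Use

/-- **What the tables deliver.** -/
structure SporInG : Prop where
  m11 : OddSig M11
  m12 : OddSig M12
  m22 : OddSig M22
  m23 : OddSig M23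
  m24 : OddSig M24
  j1 : OddMoved J1
  j2 : OddMoved J2 ∧ OddSigAut J2
  j3 : ∀ (F : Type) [Field F] [Fintype F] (ω : F), Fintype.card F = 4 → ω ^ 2 + ω + 1 = 0 →
    OddMoved (J3 F ω) ∧ OddSigAut (J3 F ω)
  j4 : OddSig J4
  co1 : OddSig Co1
  co2 : OddSig Co2
  co3 : OddSig Co3
  mcl : OddSig McL
  hs : OddSig HS
  suz : OddMoved Suz ∧ OddSigAut Suz
  he : OddSig He
  ru : OddSig Ru
  on : OddSig ON
  ly : OddSig Ly
  fi22 : OddSig Fi22
  fi23 : OddSig Fi23
  fi24 : OddSig Fi24'
  hn : OddMoved HN ∧ OddSigAut HN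
  th : OddSig Th
  b : OddSig BabyMonster
  m : OddSig Monster

/-- **`BoxG.spor` from the tables.** -/
theorem spor_of (h : SporInG) : RowG fun S _ => IsSporadicGroup S := by
  intro S _ _ _ c
  rcases c with e | e | e | e | e | e | e | e | e | e | e | e | e | e | e | e | e | e | e | e | e | e | e | e | e | e
  · exact box_m11 e h.m11
  · exact box_m12 e h.m12
  · exact box_m22 e h.m22
  · exact box_m23 e h.m23
  · exact box_m24 e h.m24
  · exact box_j1 e h.j1
  · exact box_j2 e h.j2
  · exact box_j3 e h.j3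
  · exact box_j4 e h.j4
  · exact box_co1 e h.co1
  · exact box_co2 e h.co2
  · exact box_co3 e h.co3
  · exact box_mcl e h.mcl
  · exact box_hs e h.hs
  · exact Sz.box_suz e h.suz
  · exact box_he e h.he
  · exact box_ru e h.ru
  · exact box_on e h.on
  · exact box_ly e h.ly
  · exact box_fi22 e h.fi22
  · exact box_fi23 e h.fi23
  · exact box_fi24 e h.fi24
  · exact box_hn e h.hn
  · exact box_th e h.th
  · exact box_b e h.b
  · exact box_m e h.m

/-- **`BoxG.tits` from the table.** -/
theorem tits_of (h : ∀ (S : Type) [Group S] [Finite S], Lie.IsoTits S → OddSig S) : RowG fun S _ => Lie.IsoTits S :=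
  fun S _ _ _ c => box_tits c (h S c)

end Cfsg.Agent.GAL.Spor
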