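import Cfsg.Agent.GAL.Rows
import Cfsg.Agent.QTNorm.Main
import Cfsg.Agent.QTNorm.SporM12
import Cfsg.Agent.QTNorm.SporM22S
import Cfsg.Agent.QTNorm.SporJ4
import Cfsg.Agent.QTNorm.SporHS
import Cfsg.Agent.QTNorm.SporRu
import Cfsg.Agent.H868.SelfN23
import Cfsg.Agent.H208.SelfCoOne
import Cfsg.Agent.H208.SelfCoTwoTh
import Cfsg.Agent.H769.RowCo3
import Cfsg.Agent.H769.RowON
import Cfsg.Agent.H809.SylB
import Cfsg.Agent.H809.SylC
import Cfsg.Agent.H768.Pron.SelfB
import Cfsg.Agent.H768.Pron.SelfM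
import Cfsg.Agent.H768.SelfTits

/-!
# S4617 / S4618: the sporadic groups with self-normalizing Sylow 2-subgroups (helper20, GAL)
-/

set_option autoImplicit false

namespace Cfsg.Agent.GAL.Spor

open Cfsg Cfsg.Spor Subgroup Cfsg.Agent.TAB.Use Cfsg.Agent.QTNorm

variable {S : Type} [Group S] [Finite S]

theorem box_of_selfN {T : Type} [Group T] (e : Nonempty (S ≃* T)) (hN : SelfN S) (hF : OddSig T) : Box S := by
  have := fact2
  obtain ⟨e⟩ := e
  have : Finite T := Finite.of_equiv _ e.toEquiv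
  exact Box.congr e (box_of_self default (hN.congr e default) hF)

theorem box_m11 (h : IsoM11 S) (hF : OddSig M11) : Box S := box_of_selfN h (selfN_m11 h) hF

theorem box_m12 (h : IsoM12 S) (hF : OddSig M12) : Box S := box_of_selfN h (selfN_m12 h) hF

theorem box_m22 (h : IsoM22 S) (hF : OddSig M22) : Box S := by
  obtain ⟨e⟩ := h
  have : Finite M22 := Finite.of_equiv _ e.toEquiv
  exact box_of_selfN ⟨e⟩ (selfN_M22.congr e.symm) hF

theorem box_m23 (h : IsoM23 S) (hF : OddSig M23) : Box S := by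
  obtain ⟨e⟩ := h
  have : Finite M23 := Finite.of_equiv _ e.toEquiv
  exact box_of_selfN ⟨e⟩ (H868.selfN_M23.congr e.symm) hF

theorem box_m24 (h : IsoM24 S) (hF : OddSig M24) : Box S := box_of_selfN h (selfN_m24 h) hF

theorem box_j4 (h : IsoJ4 S) (hF : OddSig J4) : Box S := box_of_selfN h (JFour.selfN_j4 h) hF

theorem box_co1 (h : IsoCo1 S) (hF : OddSig Co1) : Box S := box_of_selfN h (H208.selfN_co1 h) hF

theorem box_co2 (h : IsoCo2 S) (hF : OddSig Co2) : Box S := box_of_selfN h (H208.selfN_co2 h) hF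

theorem box_co3 (h : IsoCo3 S) (hF : OddSig Co3) : Box S := box_of_selfN h (H769.RowCo3.self h) hF

theorem box_mcl (h : IsoMcL S) (hF : OddSig McL) : Box S := box_of_selfN h (H809.Syl.selfN_mcl h) hF

theorem box_hs (h : IsoHS S) (hF : OddSig HS) : Box S := box_of_selfN h (HSRow.selfN_hs h) hF

theorem box_he (h : IsoHe S) (hF : OddSig He) : Box S := box_of_selfN h (selfN_he h) hF

theorem box_ru (h : IsoRu S) (hF : OddSig Ru) : Box S := box_of_selfN h (RuRow.selfN_ru h) hF

theorem box_on (h : IsoON S) (hF : OddSig ON) : Box S := box_of_selfN h (H769.RowON.self h) hF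

theorem box_ly (h : IsoLy S) (hF : OddSig Ly) : Box S := box_of_selfN h (H809.Syl.selfN_ly h) hF

theorem box_fi22 (h : IsoFi22 S) (hF : OddSig Fi22) : Box S := box_of_selfN h (H809.Syl.selfN_fi22 h) hF

theorem box_fi23 (h : IsoFi23 S) (hF : OddSig Fi23) : Box S := box_of_selfN h (H809.Syl.selfN_fi23 h) hF

theorem box_fi24 (h : IsoFi24' S) (hF : OddSig Fi24') : Box S := box_of_selfN h (H809.Syl.selfN_fi24 h) hF

theorem box_th (h : IsoTh S) (hF : OddSig Th) : Box S := box_of_selfN h (H208.selfN_th h) hF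

theorem box_b (h : IsoB S) (hF : OddSig BabyMonster) : Box S := box_of_selfN h (H768.Pron.selfN_b h) hF

theorem box_m (h : IsoM S) (hF : OddSig Monster) : Box S := box_of_selfN h (H768.Pron.selfN_m h) hF

theorem box_tits (h : Lie.IsoTits S) (hF : OddSig S) : Box S := by
  have := fact2
  exact box_of_self default (H768.SelfTits.selfN_tits h default) hF

end Cfsg.Agent.GAL.Spor
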